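import Mathlib
import Cfsg.Prelude.Def_Local

/-!
Groups with a cyclic Sylow `p`-subgroup: coprime action on a cyclic `p`-group, central
`p`-elements of perfect groups with abelian Sylow `p`-subgroups (transfer), and
"no normal `p`-complement implies `P ≤ G'`" (Burnside).
-/

set_option autoImplicit false

namespace Cfsg.Agent.Lib.Helper30

open Subgroup
open scoped commutatorElement

/-- In a finite cyclic group, every element killed by `p` is a power of any element of order `p`. -/
theorem mem_zpowers_of_orderOf_eq {C : Type*} [Group C] [Finite C] [IsCyclic C] {p : ℕ}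
    (hp : 0 < p) {a b : C} (ha : orderOf a = p) (hb : b ^ p = 1) : b ∈ zpowers a := by
  classical
  have := Fintype.ofFinite C
  have h1 := IsCyclic.card_pow_eq_one_le (α := C) hp
  have hinj : Function.Injective (fun i : Fin p => a ^ (i : ℕ)) := by
    intro i j hij
    have hi : (i : ℕ) < orderOf a := by rw [ha]; exact i.2
    have hj : (j : ℕ) < orderOf a := by rw [ha]; exact j.2
    exact Fin.ext (pow_injOn_Iio_orderOf (Set.mem_Iio.mpr hi) (Set.mem_Iio.mpr hj) hij)
  have hsub : Finset.univ.image (fun i : Fin p => a ^ (i : ℕ)) ⊆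
      Finset.univ.filter (fun x : C => x ^ p = 1) := by
    intro x hx
    obtain ⟨i, -, rfl⟩ := Finset.mem_image.mp hx
    simp only [Finset.mem_filter, Finset.mem_univ, true_and]
    have hap : a ^ p = 1 := by rw [← ha]; exact pow_orderOf_eq_one a
    rw [← pow_mul, mul_comm, pow_mul, hap, one_pow]
  have hcard : (Finset.univ.filter (fun x : C => x ^ p = 1)).card ≤
      (Finset.univ.image (fun i : Fin p => a ^ (i : ℕ))).card := by
    rw [Finset.card_image_of_injective _ hinj, Finset.card_univ, Fintype.card_fin]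
    exact h1
  have heq := Finset.eq_of_subset_of_card_le hsub hcard
  have hbT : b ∈ Finset.univ.filter (fun x : C => x ^ p = 1) := by
    simp only [Finset.mem_filter, Finset.mem_univ, true_and]; exact hb
  rw [← heq] at hbT
  obtain ⟨i, -, rfl⟩ := Finset.mem_image.mp hbT
  exact Subgroup.pow_mem _ (mem_zpowers a) _

/-- A nontrivial `p`-element has a power of order exactly `p`. -/
theorem exists_pow_orderOf_eq_prime {G : Type*} [Group G] {p : ℕ} [hp : Fact p.Prime] {x : G}
    (hx : x ≠ 1) {j : ℕ} (hxp : x ^ p ^ j = 1) : ∃ i : ℕ, orderOf (x ^ i) = p := by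
  obtain ⟨i, hi, hio⟩ := (Nat.dvd_prime_pow hp.out).mp (orderOf_dvd_of_pow_eq_one hxp)
  have hi0 : i ≠ 0 := by
    rintro rfl
    rw [pow_zero, orderOf_eq_one_iff] at hio
    exact hx hio
  obtain ⟨i', rfl⟩ := Nat.exists_eq_succ_of_ne_zero hi0
  refine ⟨p ^ i', ?_⟩
  have hpos : 0 < p ^ i' := pow_pos hp.out.pos _
  rw [orderOf_pow' x hpos.ne', hio, pow_succ, Nat.gcd_eq_right (Dvd.intro _ rfl),
    Nat.mul_div_cancel_left _ hpos]

/-- Coprime action on a cyclic `p`-group: an element `k` normalizing the finite cyclic `p`-group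
`P`, with a power `k ^ m` (`m` prime to `p`) centralizing `P`, either centralizes `P` or
satisfies `P = [k, P]` elementwise. -/
theorem cyclic_coprime_action {G : Type*} [Group G] {p : ℕ} [hp : Fact p.Prime] (P : Subgroup G)
    [Finite P] (hPp : IsPGroup p P) (hPc : IsCyclic P) {k : G} (hk : ∀ u ∈ P, k * u * k⁻¹ ∈ P)
    {m : ℕ} (hm : m.Coprime p) (hkm : ∀ u ∈ P, k ^ m * u = u * k ^ m) :
    (∀ u ∈ P, k * u = u * k) ∨ (∀ v ∈ P, ∃ u ∈ P, v = k * u * k⁻¹ * u⁻¹) := by
  have hcomm : ∀ u ∈ P, ∀ v ∈ P, u * v = v * u := by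
    intro u hu v hv
    let _ := IsCyclic.commGroup (α := P)
    exact congrArg Subtype.val (mul_comm (⟨u, hu⟩ : P) ⟨v, hv⟩)
  have hpel : ∀ u ∈ P, ∃ j : ℕ, u ^ p ^ j = 1 := by
    intro u hu
    obtain ⟨j, hj⟩ := hPp ⟨u, hu⟩
    exact ⟨j, by simpa using congrArg Subtype.val hj⟩
  have hθ : ∀ u ∈ P, k * u * k⁻¹ * u⁻¹ ∈ P := fun u hu => P.mul_mem (hk u hu) (P.inv_mem hu)
  -- key claim
  have key : ∀ u ∈ P, ∀ c : G, c = k * u * k⁻¹ * u⁻¹ → k * c = c * k → c = 1 := by
    intro u hu c hcdef hc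
    have hcP : c ∈ P := by rw [hcdef]; exact hθ u hu
    have hku : k * u * k⁻¹ = c * u := by rw [hcdef]; group
    have hkc : k * c * k⁻¹ = c := by rw [hc]; group
    have hind : ∀ j : ℕ, k ^ j * u * (k ^ j)⁻¹ = c ^ j * u := by
      intro j
      induction j with
      | zero => simp
      | succ j ih =>
        have h1 : k ^ (j + 1) * u * (k ^ (j + 1))⁻¹ = k * (k ^ j * u * (k ^ j)⁻¹) * k⁻¹ := by
          rw [pow_succ']; group
        have h2 : k * (c ^ j * u) * k⁻¹ = (k * c * k⁻¹) ^ j * (k * u * k⁻¹) := by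
          rw [conj_pow]; group
        rw [h1, ih, h2, hkc, hku, pow_succ, mul_assoc]
    have h3 : c ^ m * u = u := by
      rw [← hind m, hkm u hu]; group
    have h4 : c ^ m = 1 := by
      have := congrArg (· * u⁻¹) h3
      simpa using this
    obtain ⟨j, hj⟩ := hpel c hcP
    have h5 : orderOf c ∣ m := orderOf_dvd_of_pow_eq_one h4
    have h6 : orderOf c ∣ p ^ j := orderOf_dvd_of_pow_eq_one hj
    have h7 : orderOf c = 1 :=
      Nat.eq_one_of_dvd_coprimes (Nat.Coprime.pow_right j hm) h5 h6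
    exact orderOf_eq_one_iff.mp h7
  by_cases hcent : ∀ u ∈ P, k * u = u * k
  · exact Or.inl hcent
  right
  push Not at hcent
  obtain ⟨u1, hu1, hu1k⟩ := hcent
  -- fixed point free
  have hfpf : ∀ u ∈ P, k * u = u * k → u = 1 := by
    intro u0 hu0 hu0k
    by_contra hne
    obtain ⟨j0, hj0⟩ := hpel u0 hu0
    obtain ⟨i0, hi0⟩ := exists_pow_orderOf_eq_prime hne hj0
    obtain ⟨c1, hc1def⟩ : ∃ c1 : G, c1 = k * u1 * k⁻¹ * u1⁻¹ := ⟨_, rfl⟩
    have hc1P : c1 ∈ P := by rw [hc1def]; exact hθ u1 hu1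
    have hc1ne : c1 ≠ 1 := by
      intro h
      apply hu1k
      rw [hc1def] at h
      have h' : k * u1 * k⁻¹ = u1 := by
        have := congrArg (· * u1) h
        simpa using this
      calc k * u1 = (k * u1 * k⁻¹) * k := by group
        _ = u1 * k := by rw [h']
    obtain ⟨j1, hj1⟩ := hpel c1 hc1P
    obtain ⟨i1, hi1⟩ := exists_pow_orderOf_eq_prime hc1ne hj1
    -- b = c1 ^ i1 lies in zpowers (u0 ^ i0)
    have hmem : (⟨c1 ^ i1, P.pow_mem hc1P i1⟩ : P) ∈
        zpowers (⟨u0 ^ i0, P.pow_mem hu0 i0⟩ : P) := by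
      apply mem_zpowers_of_orderOf_eq hp.out.pos
      · rw [← hi0]; exact Subgroup.orderOf_mk _ _
      · apply Subtype.ext
        simp only [Subgroup.coe_pow, Subgroup.coe_one]
        rw [← hi1]; exact pow_orderOf_eq_one _
    obtain ⟨n, hn⟩ := mem_zpowers_iff.mp hmem
    have hn' : (u0 ^ i0) ^ n = c1 ^ i1 := by
      have := congrArg Subtype.val hn
      simpa using this
    -- c1 ^ i1 = θ (u1 ^ i1)
    have hku1 : k * u1 * k⁻¹ = c1 * u1 := by rw [hc1def]; group
    have hcu : Commute c1 u1 := hcomm c1 hc1P u1 hu1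
    have hpow : k * u1 ^ i1 * k⁻¹ * (u1 ^ i1)⁻¹ = c1 ^ i1 := by
      have : k * u1 ^ i1 * k⁻¹ = (k * u1 * k⁻¹) ^ i1 := by rw [conj_pow]
      rw [this, hku1, hcu.mul_pow, mul_inv_cancel_right]
    -- c1 ^ i1 commutes with k
    have hck : k * (c1 ^ i1) = (c1 ^ i1) * k := by
      rw [← hn']
      have h1 : Commute k (u0 ^ i0) := (show Commute k u0 from hu0k).pow_right i0
      exact (h1.zpow_right n)
    have h8 := key (u1 ^ i1) (P.pow_mem hu1 i1) (c1 ^ i1) hpow.symm hck
    rw [h8, orderOf_one] at hi1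
    exact hp.out.one_lt.ne hi1
  -- θ injective hence surjective
  let θ : P → P := fun u => ⟨k * u * k⁻¹ * (u : G)⁻¹, hθ u u.2⟩
  have hinj : Function.Injective θ := by
    intro u v huv
    have h1 : k * (u : G) * k⁻¹ * (u : G)⁻¹ = k * (v : G) * k⁻¹ * (v : G)⁻¹ :=
      congrArg Subtype.val huv
    have h2 : k * ((v : G)⁻¹ * u) = ((v : G)⁻¹ * u) * k := by
      have h3 : k * ((v : G)⁻¹ * u) * k⁻¹ = (k * v * k⁻¹)⁻¹ * (k * u * k⁻¹ * (u : G)⁻¹) * u := by
        group
      have h4 : k * ((v : G)⁻¹ * u) * k⁻¹ = (v : G)⁻¹ * u := by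
        rw [h3, h1]; group
      calc k * ((v : G)⁻¹ * u) = (k * ((v : G)⁻¹ * u) * k⁻¹) * k := by group
        _ = ((v : G)⁻¹ * u) * k := by rw [h4]
    have h5 := hfpf _ (P.mul_mem (P.inv_mem v.2) u.2) h2
    apply Subtype.ext
    have : (u : G) = v * ((v : G)⁻¹ * u) := by group
    rw [this, h5, mul_one]
  have hsurj := Finite.surjective_of_injective hinj
  intro v hv
  obtain ⟨u, hu⟩ := hsurj ⟨v, hv⟩
  exact ⟨u, u.2, (congrArg Subtype.val hu).symm⟩

open scoped IsMulCommutative in
/-- Transfer: in a finite perfect group with abelian Sylow `p`-subgroup `S`, the only central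
element lying in `S` is `1`. -/
theorem central_mem_sylow_eq_one_of_perfect {L : Type*} [Group L] [Finite L] {p : ℕ}
    [hp : Fact p.Prime] (hL : commutator L = ⊤) (S : Sylow p L)
    (hS : ∀ a ∈ S, ∀ b ∈ S, a * b = b * a) {z : L} (hzS : z ∈ S) (hzc : z ∈ center L) :
    z = 1 := by
  haveI : IsMulCommutative (S : Subgroup L) := ⟨⟨fun a b => Subtype.ext (hS a a.2 b b.2)⟩⟩
  have key : ∀ (k : ℕ) (g₀ : L), g₀⁻¹ * z ^ k * g₀ ∈ (S : Subgroup L) →
      g₀⁻¹ * z ^ k * g₀ = z ^ k := by
    intro k g₀ _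
    have h := mem_center_iff.mp ((center L).pow_mem hzc k) g₀
    rw [mul_assoc, ← h, inv_mul_cancel_left]
  have h1 := MonoidHom.transfer_eq_pow (MonoidHom.id (S : Subgroup L)) z key
  have h2 : MonoidHom.transfer (MonoidHom.id (S : Subgroup L)) z = 1 := by
    have hker := Abelianization.commutator_subset_ker
      (MonoidHom.transfer (MonoidHom.id (S : Subgroup L)))
    have : z ∈ (MonoidHom.transfer (MonoidHom.id (S : Subgroup L))).ker := by
      apply hker; rw [hL]; exact mem_top z
    exact this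
  rw [h2] at h1
  have h3 : z ^ (S : Subgroup L).index = 1 := by
    have := congrArg Subtype.val h1
    simpa using this.symm
  obtain ⟨j, hj⟩ := S.isPGroup' ⟨z, hzS⟩
  have hj' : z ^ p ^ j = 1 := by simpa using congrArg Subtype.val hj
  have h5 : orderOf z ∣ (S : Subgroup L).index := orderOf_dvd_of_pow_eq_one h3
  have h6 : orderOf z ∣ p ^ j := orderOf_dvd_of_pow_eq_one hj'
  have hcop : ((S : Subgroup L).index).Coprime (p ^ j) :=
    Nat.Coprime.pow_right j ((Nat.Prime.coprime_iff_not_dvd hp.out).mpr S.not_dvd_index).symm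
  exact orderOf_eq_one_iff.mp (Nat.eq_one_of_dvd_coprimes hcop h5 h6)

/-- If a Sylow `p`-subgroup is cyclic, every `p`-subgroup is cyclic. -/
theorem isCyclic_of_isPGroup_of_sylow {K : Type*} [Group K] [Finite K] {p : ℕ} [Fact p.Prime]
    (P : Sylow p K) (hP : IsCyclic (P : Subgroup K)) (R : Subgroup K) (hR : IsPGroup p R) :
    IsCyclic R := by
  obtain ⟨Q, hQ⟩ := hR.exists_le_sylow
  have h1 : IsCyclic (Q : Subgroup K) := isCyclic_of_surjective (Sylow.equiv P Q)
    (Sylow.equiv P Q).surjective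
  exact isCyclic_of_injective (Subgroup.inclusion hQ) (Subgroup.inclusion_injective hQ)

/-- If a Sylow `p`-subgroup is cyclic, every `p`-subgroup is commutative. -/
theorem comm_of_isPGroup_of_sylow {K : Type*} [Group K] [Finite K] {p : ℕ} [Fact p.Prime]
    (P : Sylow p K) (hP : IsCyclic (P : Subgroup K)) (R : Subgroup K) (hR : IsPGroup p R) :
    ∀ x ∈ R, ∀ y ∈ R, x * y = y * x := by
  intro x hx y hy
  have := isCyclic_of_isPGroup_of_sylow P hP R hR
  let _ := IsCyclic.commGroup (α := R)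
  exact congrArg Subtype.val (mul_comm (⟨x, hx⟩ : R) ⟨y, hy⟩)

/-- Burnside + coprime action: a cyclic Sylow `p`-subgroup without normal complement lies in the
commutator subgroup. -/
theorem sylow_le_commutator_of_cyclic {X : Type*} [Group X] [Finite X] {p : ℕ} [hp : Fact p.Prime]
    (P : Sylow p X) (hP : IsCyclic (P : Subgroup X))
    (hX : ∀ T : Subgroup X, T.Normal → T.IsComplement' (P : Subgroup X) → False) :
    (P : Subgroup X) ≤ commutator X := by
  have hnc : ¬ normalizer ((P : Subgroup X) : Set X) ≤ centralizer ((P : Subgroup X) : Set X) := by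
    intro h
    exact hX _ (MonoidHom.normal_ker _) (MonoidHom.ker_transferSylow_isComplement' P h)
  obtain ⟨n, hnN, hnC⟩ := SetLike.not_le_iff_exists.mp hnc
  have hPcomm : ∀ x ∈ (P : Subgroup X), ∀ y ∈ (P : Subgroup X), x * y = y * x :=
    comm_of_isPGroup_of_sylow P hP _ P.isPGroup'
  have hPC : (P : Subgroup X) ≤ centralizer ((P : Subgroup X) : Set X) := by
    intro x hx
    rw [mem_centralizer_iff]
    intro y hy
    exact hPcomm y hy x hx
  -- the exponent
  set m := (centralizer ((P : Subgroup X) : Set X)).relIndex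
    (normalizer ((P : Subgroup X) : Set X)) with hm
  have hmcop : m.Coprime p := by
    have h1 : m ∣ (P : Subgroup X).relIndex (normalizer ((P : Subgroup X) : Set X)) :=
      Subgroup.relIndex_dvd_of_le_left _ hPC
    have h2 : (P : Subgroup X).relIndex (normalizer ((P : Subgroup X) : Set X)) ∣
        (P : Subgroup X).index := Subgroup.relIndex_dvd_index_of_le le_normalizer
    exact Nat.Coprime.coprime_dvd_left (h1.trans h2)
      ((Nat.Prime.coprime_iff_not_dvd hp.out).mpr P.not_dvd_index).symm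
  have hnm : n ^ m ∈ centralizer ((P : Subgroup X) : Set X) := by
    have hker := Subgroup.normalizerMonoidHom_ker (P : Subgroup X)
    have h1 : (⟨n, hnN⟩ : normalizer ((P : Subgroup X) : Set X)) ^
        ((P : Subgroup X).normalizerMonoidHom.ker).index ∈
        (P : Subgroup X).normalizerMonoidHom.ker := Subgroup.pow_index_mem _ _
    rw [hker] at h1
    have h2 := Subgroup.mem_subgroupOf.mp h1
    simpa [Subgroup.relIndex, hm] using h2
  have hres := cyclic_coprime_action (P : Subgroup X) P.isPGroup' hP (k := n)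
    (fun u hu => (mem_normalizer_iff.mp hnN u).mp hu) hmcop
    (fun u hu => (mem_centralizer_iff.mp hnm u hu).symm)
  rcases hres with h | h
  · exfalso
    apply hnC
    rw [mem_centralizer_iff]
    intro u hu
    exact (h u hu).symm
  · intro v hv
    obtain ⟨u, -, rfl⟩ := h v hv
    rw [commutator_def]
    have : n * u * n⁻¹ * u⁻¹ = ⁅n, u⁆ := rfl
    rw [this]
    exact Subgroup.commutator_mem_commutator (mem_top n) (mem_top u)

end Cfsg.Agent.Lib.Helper30
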