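import Cfsg.Agent.Lib.Helper30.BabyCore

/-!
Groups of Monster type: an involution `t` of `Q` not conjugate to `z` lies over the class of a
minimal vector, and `z` is not weakly closed in `Q` with respect to the centralizer of `t`.
-/

set_option autoImplicit false

namespace Cfsg.Agent.Lib.Helper30

open Cfsg Cfsg.Spor Cfsg.Agent.Lib.Helper92 Cfsg.Agent.Lib.Helper7

/-- The mask of an octad. -/
def bMask : ℕ := 8536111

/-- The difference of an octad vector and its image under the sign change on another octad. -/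
def bW : List ℤ := [4, 0, 0, 0, 0, 0, 0, 0, 0, 0, 0, 0, 0, 0, 0, 0, 0, 0, 0, 0, 0, 0, 0, -4]

/-- The vector `8 e_∞`. -/
def bE8 : List ℤ := [0, 0, 0, 0, 0, 0, 0, 0, 0, 0, 0, 0, 0, 0, 0, 0, 0, 0, 0, 0, 0, 0, 0, 8]

theorem bMask_ok : isCode bMask = true ∧ leechB cO3 = true ∧ nL bW = 32 ∧ dL cO3 bE8 = 16 := by
  decide +kernel

theorem bMask_mem : wordOf bMask ∈ golayCode :=
  (wordOf_mem_golayCode_iff (by unfold bMask; norm_num)).2 bMask_ok.1

theorem bW_eq : signVec (wordOf bMask) (vecOf cO3) + -vecOf cO3 = vecOf bW := by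
  rw [signVec_vecOf]
  apply fun_ext_pt
  intro j hj
  simp only [Pi.add_apply, Pi.neg_apply, vecOf_pt _ hj]
  revert j
  decide +kernel

theorem bE8_eq : vecEight none = vecOf bE8 := by
  apply fun_ext_pt
  intro j hj
  rw [vecOf_pt _ hj]
  unfold vecEight
  revert j
  decide +kernel

section

variable {G : Type*} [Group G]

/-- An involution of `Q` that is not conjugate to `z` lies over the class of a minimal vector. -/
theorem monster_type_two [Finite G] (z : G)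
    (Q : Subgroup (Subgroup.centralizer ({z} : Set G))) [Q.Normal]
    (hz : orderOf z = 2)
    (hF : Cfsg.generalizedFittingSubgroup (Subgroup.centralizer ({z} : Set G)) = Q)
    (hES : Cfsg.IsExtraspecial 2 Q) (hcard : 8 < Nat.card Q)
    (hnwc : ∃ g : G, (∃ hq : g * z * g⁻¹ ∈ Subgroup.centralizer ({z} : Set G),
      (⟨g * z * g⁻¹, hq⟩ : Subgroup.centralizer ({z} : Set G)) ∈ Q) ∧ g * z * g⁻¹ ≠ z)
    (e : (Subgroup.centralizer ({z} : Set G)) ⧸ Q ≃* Spor.Co1)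
    (ψ : leechLattice → Q ⧸ Subgroup.center Q) (hψ : Cfsg.IsLeechModTwoIso Q e ψ)
    (x : Q) (hx2 : ((x : Subgroup.centralizer ({z} : Set G)) : G) *
      ((x : Subgroup.centralizer ({z} : Set G)) : G) = 1)
    (hx1 : ((x : Subgroup.centralizer ({z} : Set G)) : G) ≠ 1)
    (hxc : ¬ IsConj z ((x : Subgroup.centralizer ({z} : Set G)) : G)) :
    ∃ v : leechLattice, ψ v = QuotientGroup.mk x ∧ sqNorm (v : GolayPt → ℤ) = 32 := by
  have hzC : z ∈ Subgroup.centralizer ({z} : Set G) := mem_cent_sing.2 rfl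
  obtain ⟨ζ, hζdef⟩ : ∃ ζ : Subgroup.centralizer ({z} : Set G), ζ = ⟨z, hzC⟩ := ⟨_, rfl⟩
  have hζ : (ζ : G) = z := by rw [hζdef]
  have D := leechQuadData_of_monster z Q hz hF hES (by omega) e ψ hψ ζ hζ
  have hx1' : (x : Subgroup.centralizer ({z} : Set G)) ≠ 1 := by
    intro h
    apply hx1
    rw [h]; rfl
  have hxζ : (x : Subgroup.centralizer ({z} : Set G)) ≠ ζ := by
    intro h
    apply hxc
    rw [h, hζ]
  have hxx : (x : Subgroup.centralizer ({z} : Set G)) * (x : Subgroup.centralizer ({z} : Set G)) =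
      1 := Subtype.ext hx2
  obtain ⟨v, hv, hn⟩ := D.exists_short_lift x hx1' hxζ hxx
  refine ⟨v, hv, ?_⟩
  rcases hn with hn | hn
  · exact hn
  · exfalso
    obtain ⟨g₀, ⟨hq₀, hg₀Q⟩, hne⟩ := hnwc
    obtain ⟨v₆, hv₆, hv64⟩ := monster_conj_lift z Q hz hF hES hcard e ψ hψ g₀
      ⟨⟨g₀ * z * g₀⁻¹, hq₀⟩, hg₀Q⟩ rfl hne
    obtain ⟨h, hh⟩ := D.conj_of_norm ⟨⟨g₀ * z * g₀⁻¹, hq₀⟩, hg₀Q⟩ x v₆ v hv₆ hv hx1' hxζ
      (Or.inr hv64) (by rw [hn, hv64])
    apply hxc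
    rw [isConj_iff]
    refine ⟨(h : G) * g₀, ?_⟩
    have h1 : (h : G) * (g₀ * z * g₀⁻¹) * (h : G)⁻¹ =
        ((x : Subgroup.centralizer ({z} : Set G)) : G) := congrArg Subtype.val hh
    rw [← h1]; group

/-- `z` is not weakly closed in `Q` with respect to the centralizer of an element of `Q` lying over
the class of a minimal vector. -/
theorem monster_fusion_cent [Finite G] (z : G)
    (Q : Subgroup (Subgroup.centralizer ({z} : Set G))) [hQn : Q.Normal]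
    (hz : orderOf z = 2)
    (hF : Cfsg.generalizedFittingSubgroup (Subgroup.centralizer ({z} : Set G)) = Q)
    (hES : Cfsg.IsExtraspecial 2 Q) (hcard : Nat.card Q = 2 ^ 25)
    (hnwc : ∃ g : G, (∃ hq : g * z * g⁻¹ ∈ Subgroup.centralizer ({z} : Set G),
      (⟨g * z * g⁻¹, hq⟩ : Subgroup.centralizer ({z} : Set G)) ∈ Q) ∧ g * z * g⁻¹ ≠ z)
    (e : (Subgroup.centralizer ({z} : Set G)) ⧸ Q ≃* Spor.Co1)
    (ψ : leechLattice → Q ⧸ Subgroup.center Q) (hψ : Cfsg.IsLeechModTwoIso Q e ψ)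
    (x : Q) (v : leechLattice) (hv : ψ v = QuotientGroup.mk x)
    (hv32 : sqNorm (v : GolayPt → ℤ) = 32) :
    ∃ g : G, g * ((x : Subgroup.centralizer ({z} : Set G)) : G) =
        ((x : Subgroup.centralizer ({z} : Set G)) : G) * g ∧
      (∃ hq : g * z * g⁻¹ ∈ Subgroup.centralizer ({z} : Set G),
        (⟨g * z * g⁻¹, hq⟩ : Subgroup.centralizer ({z} : Set G)) ∈ Q) ∧ g * z * g⁻¹ ≠ z := by
  obtain ⟨g₀, ⟨hq₀, hg₀Q⟩, hne⟩ := hnwc
  obtain ⟨r, hrdef⟩ : ∃ r : Q, r = ⟨⟨g₀ * z * g₀⁻¹, hq₀⟩, hg₀Q⟩ := ⟨_, rfl⟩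
  have hr : ((r : Subgroup.centralizer ({z} : Set G)) : G) = g₀ * z * g₀⁻¹ := by rw [hrdef]
  obtain ⟨-, c12, -⟩ := monster_cover_card z Q hz hF hES hcard e ψ hψ g₀ r hr hne
  have h8 : 8 < Nat.card Q := by rw [hcard]; norm_num
  have hzC : z ∈ Subgroup.centralizer ({z} : Set G) := mem_cent_sing.2 rfl
  obtain ⟨ζ, hζdef⟩ : ∃ ζ : Subgroup.centralizer ({z} : Set G), ζ = ⟨z, hzC⟩ := ⟨_, rfl⟩
  have hζ : (ζ : G) = z := by rw [hζdef]
  have D := leechQuadData_of_monster z Q hz hF hES (by omega) e ψ hψ ζ hζ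
  have hint := hψ.2.2.2
  have hB : Subgroup.centralizer (Q : Set (Subgroup.centralizer ({z} : Set G))) ≤ Q := by
    have := centralizer_generalizedFittingSubgroup_le (Subgroup.centralizer ({z} : Set G))
    rwa [hF] at this
  have L := largeData_map z Q hB ζ hζ D.d h8
  obtain ⟨v₆, hv₆, hv64⟩ := monster_conj_lift z Q hz hF hES h8 e ψ hψ g₀ r hr hne
  obtain ⟨Q₁, hQ₁⟩ : ∃ Q₁ : Subgroup G,
      Q₁ = Q.map (Subgroup.centralizer ({z} : Set G)).subtype := ⟨_, rfl⟩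
  rw [← hQ₁] at L c12
  have hQ₁mem : ∀ x : G, x ∈ Q₁ ↔ ∃ hx : x ∈ Subgroup.centralizer ({z} : Set G),
      (⟨x, hx⟩ : Subgroup.centralizer ({z} : Set G)) ∈ Q := by
    intro x
    rw [hQ₁]
    constructor
    · rintro ⟨y, hy, rfl⟩
      exact ⟨y.2, hy⟩
    · rintro ⟨hx, hxQ⟩
      exact ⟨⟨x, hx⟩, hxQ, rfl⟩
  obtain ⟨Q₂, hQ₂⟩ : ∃ Q₂ : Subgroup G, Q₂ = Q₁.map (MulAut.conj g₀).toMonoidHom := ⟨_, rfl⟩
  rw [← hQ₂] at c12
  have hQ₂mem : ∀ y, y ∈ Q₂ ↔ g₀⁻¹ * y * g₀ ∈ Q₁ := by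
    intro y; rw [hQ₂, Subgroup.mem_map_equiv, MulAut.conj_symm_apply]
  have huQ : g₀ * z * g₀⁻¹ ∈ Q₁ := by
    rw [hQ₁, ← hr]; exact ⟨r, r.2, rfl⟩
  have P : LargePair Q₁ Q₂ z (g₀ * z * g₀⁻¹) := LargePair.of_conj L g₀ huQ hne Q₂ hQ₂mem
  obtain ⟨u, hu⟩ : ∃ u : G, u = g₀ * z * g₀⁻¹ := ⟨_, rfl⟩
  rw [← hu] at P hr hne huQ
  have hr1 : ((r : Subgroup.centralizer ({z} : Set G))) ≠ 1 := by
    intro h
    apply P.u1
    rw [← hr, h]; rfl
  have hrζ : ((r : Subgroup.centralizer ({z} : Set G))) ≠ ζ := by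
    intro h
    apply hne
    rw [← hr, h]; exact hζ
  have hcr_of : ∀ c : Subgroup.centralizer ({z} : Set G), (c : G) * u = u * (c : G) →
      c * (r : Subgroup.centralizer ({z} : Set G)) * c⁻¹ = r := by
    intro c hc
    apply Subtype.ext
    show (c : G) * ((r : Subgroup.centralizer ({z} : Set G)) : G) * (c : G)⁻¹ = _
    rw [hr]
    calc (c : G) * u * (c : G)⁻¹ = (u * (c : G)) * (c : G)⁻¹ := by rw [hc]
      _ = u := by group
  have hcu_of : ∀ c : Subgroup.centralizer ({z} : Set G),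
      c * (r : Subgroup.centralizer ({z} : Set G)) * c⁻¹ = r → (c : G) * u = u * (c : G) := by
    intro c hc
    have h : (c : G) * ((r : Subgroup.centralizer ({z} : Set G)) : G) * (c : G)⁻¹ =
        ((r : Subgroup.centralizer ({z} : Set G)) : G) := congrArg Subtype.val hc
    rw [hr] at h
    calc (c : G) * u = ((c : G) * u * (c : G)⁻¹) * (c : G) := by group
      _ = u * (c : G) := by rw [h]
  have h₁ : ∀ y : Subgroup.centralizer ({z} : Set G), (y : G) ∈ Q₂ →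
      y * (r : Subgroup.centralizer ({z} : Set G)) * y⁻¹ = r := by
    intro y hy
    exact hcr_of y (P.L₂.d.hzc (y : G) hy).symm
  have h₂ : ∀ c : Subgroup.centralizer ({z} : Set G),
      c * (r : Subgroup.centralizer ({z} : Set G)) * c⁻¹ = r →
      ∀ y : Subgroup.centralizer ({z} : Set G), (y : G) ∈ Q₂ →
        ((c * y * c⁻¹ : Subgroup.centralizer ({z} : Set G)) : G) ∈ Q₂ := by
    intro c hc y hy
    exact P.L₂.hN (c : G) (hcu_of c hc) (y : G) hy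
  have h₃ : ∀ y : Subgroup.centralizer ({z} : Set G), (y : G) ∈ Q₂ → y ^ 4 = 1 := by
    intro y hy
    apply Subtype.ext
    have := P.L₂.pow_four hy
    simpa using this
  obtain ⟨p1, p2, p3⟩ := coverSub_props z Q e ψ hψ ζ D r hr1 hrζ v₆ hv₆ Q₂ h₁ h₂ h₃
  obtain ⟨τ, hτv⟩ := co0_trans_64 v₆ (latEight none) hv64 (sqNorm_vecEight none)
  have hτv' : (τ : Equiv.Perm leechLattice) v₆ = latEight none := hτv
  have hτi : (τ : Equiv.Perm leechLattice)⁻¹ (latEight none) = v₆ := by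
    rw [Equiv.Perm.inv_eq_iff_eq]; exact hτv'.symm
  have hτi0 : (τ : Equiv.Perm leechLattice)⁻¹ ∈ Co0 := Co0.inv_mem τ.2
  -- an element of `Q₂ ∩ C(z)` over a sign change
  obtain ⟨hγ, y, hy, hmy⟩ := cross_normal_two_surj v₆ τ τ.2 hτv' _ p1 p2 p3 (by rw [c12])
    (wordOf bMask) bMask_mem
  -- an element of `Q` over an octad vector
  obtain ⟨x₀, hx₀⟩ : ∃ x₀ : leechLattice, x₀ = ⟨vecOf cO3, leechB_sound bMask_ok.2.1⟩ :=
    ⟨_, rfl⟩
  have hx₀c : (x₀ : GolayPt → ℤ) = vecOf cO3 := by rw [hx₀]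
  obtain ⟨x', hx'⟩ : ∃ x' : leechLattice, x' = (τ : Equiv.Perm leechLattice)⁻¹ x₀ := ⟨_, rfl⟩
  obtain ⟨q, hq⟩ := QuotientGroup.mk_surjective (ψ x')
  have hqu : ((q : Subgroup.centralizer ({z} : Set G)) : G) * u =
      u * ((q : Subgroup.centralizer ({z} : Set G)) : G) := by
    have h1 : (q : Subgroup.centralizer ({z} : Set G)) * (r : Subgroup.centralizer ({z} : Set G)) =
        (r : Subgroup.centralizer ({z} : Set G)) * (q : Subgroup.centralizer ({z} : Set G)) := by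
      rw [D.comm_iff_dvd x' v₆ q r hq.symm hv₆, hx', ← hτi, co0_dotInt hτi0]
      show (16 : ℤ) ∣ dotInt (x₀ : GolayPt → ℤ) (vecEight none)
      have h16 : dotInt (vecOf cO3) (vecOf bE8) = 16 := (dotInt_vecOf _ _).trans bMask_ok.2.2.2
      rw [hx₀c, bE8_eq, h16]
    have h2 := congrArg Subtype.val h1
    rw [← hr]
    exact h2
  -- the commutator
  have hyq : y * (q : Subgroup.centralizer ({z} : Set G)) * y⁻¹ ∈ Q := hQn.conj_mem q q.2 y
  obtain ⟨t₀, ht₀⟩ : ∃ t₀ : Q, t₀ = ⟨y * (q : Subgroup.centralizer ({z} : Set G)) * y⁻¹, hyq⟩ * q⁻¹ :=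
    ⟨_, rfl⟩
  have ht₀c : ((t₀ : Subgroup.centralizer ({z} : Set G)) : G) =
      (y : G) * ((q : Subgroup.centralizer ({z} : Set G)) : G) * (y : G)⁻¹ *
        ((q : Subgroup.centralizer ({z} : Set G)) : G)⁻¹ := by rw [ht₀]; rfl
  obtain ⟨w', hw'⟩ : ∃ w' : leechLattice,
      w' = (⟨_, hγ⟩ : Co0) • x' + -x' := ⟨_, rfl⟩
  have hψw : ψ w' = QuotientGroup.mk t₀ := by
    have h1 := hint y ⟨_, hγ⟩ hmy x' q hq.symm
    rw [hw', D.hadd, D.psi_neg, h1, ← hq, ht₀]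
    rfl
  have hw32 : sqNorm (w' : GolayPt → ℤ) = 32 := by
    have h1 : w' = (τ : Equiv.Perm leechLattice)⁻¹
        (signCo (wordOf bMask) bMask_mem x₀ + -x₀) := by
      rw [hw', co0_map_add hτi0, co0_map_neg hτi0, hx']
      congr 1
      show (τ : Equiv.Perm leechLattice)⁻¹ (signCo (wordOf bMask) bMask_mem
        ((τ : Equiv.Perm leechLattice) ((τ : Equiv.Perm leechLattice)⁻¹ x₀))) = _
      have e1 : (τ : Equiv.Perm leechLattice) ((τ : Equiv.Perm leechLattice)⁻¹ x₀) = x₀ :=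
        Equiv.apply_symm_apply _ _
      rw [e1]
    rw [h1, co0_sqNorm hτi0]
    show sqNorm (signVec (wordOf bMask) (x₀ : GolayPt → ℤ) + -(x₀ : GolayPt → ℤ)) = 32
    rw [hx₀c, bW_eq, sqNorm_vecOf]
    exact bMask_ok.2.2.1
  obtain ⟨ht₀1, ht₀ζ⟩ := D.noncentral_of_norm32 w' t₀ hψw hw32
  have ht₀sq := (D.sq_eq_one_iff w' t₀ hψw).2 ⟨1, by rw [hw32]; norm_num⟩
  have ht₀Q₂ : ((t₀ : Subgroup.centralizer ({z} : Set G)) : G) ∈ Q₂ := by
    rw [ht₀c]
    have h1 := P.L₂.hN ((q : Subgroup.centralizer ({z} : Set G)) : G) hqu (y : G)⁻¹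
      (Q₂.inv_mem hy)
    have h2 := Q₂.mul_mem hy h1
    have e1 : (y : G) * (((q : Subgroup.centralizer ({z} : Set G)) : G) * (y : G)⁻¹ *
        ((q : Subgroup.centralizer ({z} : Set G)) : G)⁻¹) =
        (y : G) * ((q : Subgroup.centralizer ({z} : Set G)) : G) * (y : G)⁻¹ *
        ((q : Subgroup.centralizer ({z} : Set G)) : G)⁻¹ := by group
    rw [← e1]; exact h2
  -- `t₀` is not conjugate to `z`
  have hnc : ∀ g₁ : G, g₁ * z * g₁⁻¹ ≠ ((t₀ : Subgroup.centralizer ({z} : Set G)) : G) := by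
    intro g₁ h
    have hne₁ : g₁ * z * g₁⁻¹ ≠ z := by
      rw [h]
      intro h'
      apply ht₀ζ
      apply Subtype.ext
      rw [h', hζ]
    exact monster_conj_not_short z Q hz hF hES h8 e ψ hψ g₁ t₀ h.symm hne₁ w' hψw hw32
  -- the conjugate of `t₀` under `g₀⁻¹`
  obtain ⟨hs₁C, hs₁Q⟩ := (hQ₁mem _).1 ((hQ₂mem _).1 ht₀Q₂)
  obtain ⟨s₁, hs₁⟩ : ∃ s₁ : Q, s₁ = ⟨⟨g₀⁻¹ * ((t₀ : Subgroup.centralizer ({z} : Set G)) : G) * g₀,
      hs₁C⟩, hs₁Q⟩ := ⟨_, rfl⟩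
  have hs₁c : ((s₁ : Subgroup.centralizer ({z} : Set G)) : G) =
      g₀⁻¹ * ((t₀ : Subgroup.centralizer ({z} : Set G)) : G) * g₀ := by rw [hs₁]
  have ht₀s : ((t₀ : Subgroup.centralizer ({z} : Set G)) : G) =
      g₀ * ((s₁ : Subgroup.centralizer ({z} : Set G)) : G) * g₀⁻¹ := by rw [hs₁c]; group
  have hs₁1 : (s₁ : Subgroup.centralizer ({z} : Set G)) ≠ 1 := by
    intro h
    apply ht₀1
    apply Subtype.ext
    rw [ht₀s, h]
    show g₀ * 1 * g₀⁻¹ = 1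
    group
  have hs₁ζ : (s₁ : Subgroup.centralizer ({z} : Set G)) ≠ ζ := by
    intro h
    apply hnc g₀
    rw [ht₀s, h, hζ]
  have hs₁sq : (s₁ : Subgroup.centralizer ({z} : Set G)) * (s₁ : Subgroup.centralizer ({z} : Set G)) =
      1 := by
    apply Subtype.ext
    show ((s₁ : Subgroup.centralizer ({z} : Set G)) : G) *
      ((s₁ : Subgroup.centralizer ({z} : Set G)) : G) = 1
    have h1 : ((t₀ : Subgroup.centralizer ({z} : Set G)) : G) *
        ((t₀ : Subgroup.centralizer ({z} : Set G)) : G) = 1 := congrArg Subtype.val ht₀sq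
    rw [hs₁c]
    calc g₀⁻¹ * ((t₀ : Subgroup.centralizer ({z} : Set G)) : G) * g₀ *
          (g₀⁻¹ * ((t₀ : Subgroup.centralizer ({z} : Set G)) : G) * g₀) =
          g₀⁻¹ * (((t₀ : Subgroup.centralizer ({z} : Set G)) : G) *
            ((t₀ : Subgroup.centralizer ({z} : Set G)) : G)) * g₀ := by group
      _ = 1 := by rw [h1]; group
  obtain ⟨v₁, hv₁, hn₁⟩ := D.exists_short_lift s₁ hs₁1 hs₁ζ hs₁sq
  have hn₁' : sqNorm (v₁ : GolayPt → ℤ) = 32 := by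
    rcases hn₁ with h | h
    · exact h
    · exfalso
      obtain ⟨h', hh'⟩ := D.conj_of_norm r s₁ v₆ v₁ hv₆ hv₁ hs₁1 hs₁ζ (Or.inr hv64)
        (by rw [h, hv64])
      have h1 : (h' : G) * u * (h' : G)⁻¹ = ((s₁ : Subgroup.centralizer ({z} : Set G)) : G) := by
        rw [← hr]; exact congrArg Subtype.val hh'
      apply hnc (g₀ * (h' : G) * g₀)
      rw [ht₀s, ← h1, hu]; group
  obtain ⟨h, hh⟩ := D.conj_of_norm s₁ t₀ v₁ w' hv₁ hψw ht₀1 ht₀ζ (Or.inl hn₁')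
    (by rw [hw32, hn₁'])
  have hh' : (h : G) * ((s₁ : Subgroup.centralizer ({z} : Set G)) : G) * (h : G)⁻¹ =
      ((t₀ : Subgroup.centralizer ({z} : Set G)) : G) := congrArg Subtype.val hh
  have hhz : (h : G) * z = z * (h : G) := mem_cent_sing.1 h.2
  obtain ⟨k, hk⟩ : ∃ k : G, k = (h : G) * g₀⁻¹ := ⟨_, rfl⟩
  have hkt : k * ((t₀ : Subgroup.centralizer ({z} : Set G)) : G) * k⁻¹ =
      ((t₀ : Subgroup.centralizer ({z} : Set G)) : G) := by
    rw [hk]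
    calc (h : G) * g₀⁻¹ * ((t₀ : Subgroup.centralizer ({z} : Set G)) : G) * ((h : G) * g₀⁻¹)⁻¹ =
        (h : G) * (g₀⁻¹ * ((t₀ : Subgroup.centralizer ({z} : Set G)) : G) * g₀) * (h : G)⁻¹ := by
          group
      _ = ((t₀ : Subgroup.centralizer ({z} : Set G)) : G) := by rw [← hs₁c, hh']
  have hkz : k * z * k⁻¹ = (h : G) * (g₀⁻¹ * z * g₀) * (h : G)⁻¹ := by rw [hk]; group
  have hkzQ : k * z * k⁻¹ ∈ Q₁ := by
    rw [hkz]
    exact L.hN (h : G) hhz _ ((hQ₂mem z).1 P.hz)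
  have hkzne : k * z * k⁻¹ ≠ z := by
    rw [hkz]
    intro h'
    apply hne
    have h1 : g₀⁻¹ * z * g₀ = z := by
      calc g₀⁻¹ * z * g₀ = (h : G)⁻¹ * ((h : G) * (g₀⁻¹ * z * g₀) * (h : G)⁻¹) * (h : G) := by group
        _ = (h : G)⁻¹ * (z * (h : G)) := by rw [h']; group
        _ = (h : G)⁻¹ * ((h : G) * z) := by rw [hhz]
        _ = z := by group
    rw [hu]
    calc g₀ * z * g₀⁻¹ = g₀ * (g₀⁻¹ * z * g₀) * g₀⁻¹ := by rw [h1]
      _ = z := by group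
  -- transport to `x`
  obtain ⟨hx1, hxζ⟩ := D.noncentral_of_norm32 v x hv hv32
  obtain ⟨c, hc⟩ := D.conj_of_norm t₀ x w' v hψw hv hx1 hxζ (Or.inl hw32) (by rw [hv32, hw32])
  have hc' : (c : G) * ((t₀ : Subgroup.centralizer ({z} : Set G)) : G) * (c : G)⁻¹ =
      ((x : Subgroup.centralizer ({z} : Set G)) : G) := congrArg Subtype.val hc
  have hcz : (c : G) * z = z * (c : G) := mem_cent_sing.1 c.2
  have hgz : (c : G) * k * (c : G)⁻¹ * z * ((c : G) * k * (c : G)⁻¹)⁻¹ =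
      (c : G) * (k * z * k⁻¹) * (c : G)⁻¹ := by
    have h1 : (c : G)⁻¹ * z = z * (c : G)⁻¹ := by
      calc (c : G)⁻¹ * z = (c : G)⁻¹ * (z * (c : G)) * (c : G)⁻¹ := by group
        _ = (c : G)⁻¹ * ((c : G) * z) * (c : G)⁻¹ := by rw [hcz]
        _ = z * (c : G)⁻¹ := by group
    calc (c : G) * k * (c : G)⁻¹ * z * ((c : G) * k * (c : G)⁻¹)⁻¹ =
        (c : G) * k * ((c : G)⁻¹ * z) * ((c : G) * k * (c : G)⁻¹)⁻¹ := by group
      _ = (c : G) * k * (z * (c : G)⁻¹) * ((c : G) * k * (c : G)⁻¹)⁻¹ := by rw [h1]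
      _ = (c : G) * (k * z * k⁻¹) * (c : G)⁻¹ := by group
  refine ⟨(c : G) * k * (c : G)⁻¹, ?_, ?_, ?_⟩
  · have h1 : (c : G) * k * (c : G)⁻¹ * ((x : Subgroup.centralizer ({z} : Set G)) : G) *
        ((c : G) * k * (c : G)⁻¹)⁻¹ = ((x : Subgroup.centralizer ({z} : Set G)) : G) := by
      rw [← hc']
      calc (c : G) * k * (c : G)⁻¹ * ((c : G) * ((t₀ : Subgroup.centralizer ({z} : Set G)) : G) *
            (c : G)⁻¹) * ((c : G) * k * (c : G)⁻¹)⁻¹ =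
          (c : G) * (k * ((t₀ : Subgroup.centralizer ({z} : Set G)) : G) * k⁻¹) * (c : G)⁻¹ := by
            group
        _ = (c : G) * ((t₀ : Subgroup.centralizer ({z} : Set G)) : G) * (c : G)⁻¹ := by rw [hkt]
    calc (c : G) * k * (c : G)⁻¹ * ((x : Subgroup.centralizer ({z} : Set G)) : G) =
        ((c : G) * k * (c : G)⁻¹ * ((x : Subgroup.centralizer ({z} : Set G)) : G) *
          ((c : G) * k * (c : G)⁻¹)⁻¹) * ((c : G) * k * (c : G)⁻¹) := by group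
      _ = ((x : Subgroup.centralizer ({z} : Set G)) : G) * ((c : G) * k * (c : G)⁻¹) := by rw [h1]
  · rw [hgz]
    exact (hQ₁mem _).1 (L.hN (c : G) hcz _ hkzQ)
  · rw [hgz]
    intro h'
    apply hkzne
    calc k * z * k⁻¹ = (c : G)⁻¹ * ((c : G) * (k * z * k⁻¹) * (c : G)⁻¹) * (c : G) := by group
      _ = (c : G)⁻¹ * (z * (c : G)) := by rw [h']; group
      _ = (c : G)⁻¹ * ((c : G) * z) := by rw [hcz]
      _ = z := by group

end

end Cfsg.Agent.Lib.Helper30
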