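import Cfsg.Agent.Lib.Helper92.LeechFuse
import Cfsg.Agent.Lib.Helper92.LeechCensus
import Cfsg.Agent.Lib.Helper92.LeechIrr
import Cfsg.Agent.Lib.Helper92.LeechTransCo

/-!
The stabilizer of a minimal vector of the Leech lattice in the automorphism group of the lattice
has no nontrivial normal 2-subgroup.
-/

set_option autoImplicit false

namespace Cfsg.Agent.Lib.Helper30

open Cfsg Cfsg.Spor Cfsg.Agent.Lib.Helper92 Cfsg.Agent.Lib.Helper7

/-! ### Explicit vectors -/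

/-- An octad vector with inner product `-8` with `vecU`. -/
def cL8 : List ℤ := [0, -2, -2, 0, 0, 0, 0, 0, 0, 0, 0, 0, 0, 0, -2, 0, -2, 0, -2, -2, -2, 0, 0, -2]

/-- A minimal vector with inner product `-16` with `vecU`. -/
def cL16 : List ℤ := [0, 4, 0, 0, 0, 0, 0, 0, 0, 0, 0, 0, 0, 0, 0, 0, 0, 0, 0, 0, 0, 0, 0, -4]

def cP1 : List ℤ := [0, 0, 4, 0, 0, 0, 0, 0, 0, 0, 0, 0, 0, 0, 4, 0, 0, 0, 0, 0, 0, 0, 0, 0]
def cP2 : List ℤ := [0, 0, 0, 0, 0, 0, 0, 0, 0, 0, 0, 0, 0, 0, 0, 0, 4, 0, 4, 0, 0, 0, 0, 0]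
def cP3 : List ℤ := [0, 0, 0, 0, 0, 0, 0, 0, 0, 0, 0, 0, 0, 0, 0, 0, 0, 0, 0, 4, 4, 0, 0, 0]
def cP4 : List ℤ := [0, 4, 4, 0, 0, 0, 0, 0, 0, 0, 0, 0, 0, 0, 0, 0, 0, 0, 0, 0, 0, 0, 0, 0]
def cP5 : List ℤ := [0, 4, -4, 0, 0, 0, 0, 0, 0, 0, 0, 0, 0, 0, 0, 0, 0, 0, 0, 0, 0, 0, 0, 0]

def cO1 : List ℤ := [-2, -2, 2, 2, 0, 2, 0, 0, 0, 0, 0, 0, 0, 0, 2, 0, 0, 2, 0, 0, 0, 0, 0, 2]
def cO2 : List ℤ := [-2, 0, -2, 0, 0, 2, 0, 0, 0, 0, 0, 0, 0, 0, 0, 2, 2, 0, 2, 0, 0, 2, 0, 2]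
def cO3 : List ℤ := [-2, 0, 0, 0, 0, 0, 0, -2, 0, 0, 0, 0, 0, 0, 0, 2, 2, 0, 0, 2, 2, 0, 2, 2]
def cO4 : List ℤ := [-2, 2, 2, 0, -2, 0, 0, 0, 0, 0, 0, 0, 0, 2, 0, 0, 2, 0, 0, 0, 0, 0, 2, 2]
def cO5 : List ℤ := [-2, 2, -2, 0, 2, 0, 0, 0, 0, 0, 0, 0, 0, 2, 0, 0, 2, 0, 0, 0, 0, 0, 2, 2]

theorem cL_ok : leechB uL = true ∧ leechB qL8 = true ∧ leechB cL8 = true ∧ leechB cL16 = true ∧
    leechB cP1 = true ∧ leechB cP2 = true ∧ leechB cP3 = true ∧ leechB cP4 = true ∧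
    leechB cP5 = true ∧ leechB cO1 = true ∧ leechB cO2 = true ∧ leechB cO3 = true ∧
    leechB cO4 = true ∧ leechB cO5 = true := by decide +kernel

theorem cL_norm : nL uL = 32 ∧ nL qL8 = 32 ∧ nL cL8 = 32 ∧ nL cL16 = 32 ∧
    nL cP1 = 32 ∧ nL cP2 = 32 ∧ nL cP3 = 32 ∧ nL cP4 = 32 ∧
    nL cP5 = 32 ∧ nL cO1 = 32 ∧ nL cO2 = 32 ∧ nL cO3 = 32 ∧
    nL cO4 = 32 ∧ nL cO5 = 32 := by decide +kernel

theorem cL_dotU : dL uL qL8 = 0 ∧ dL uL cL8 = -8 ∧ dL uL cL16 = -16 ∧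
    dL uL cP1 = 0 ∧ dL uL cP2 = 0 ∧ dL uL cP3 = 0 ∧ dL uL cP4 = 0 ∧
    dL uL cP5 = 0 ∧ dL uL cO1 = 0 ∧ dL uL cO2 = 0 ∧ dL uL cO3 = 0 ∧
    dL uL cO4 = 0 ∧ dL uL cO5 = 0 := by decide +kernel

theorem cL_link : dL qL8 cO1 = 16 ∧ dL qL8 cO2 = 16 ∧ dL qL8 cO3 = 16 ∧ dL qL8 cO4 = 16 ∧
    dL qL8 cO5 = 16 ∧ dL cO1 cP1 = 16 ∧ dL cO2 cP2 = 16 ∧ dL cO3 cP3 = 16 ∧ dL cO4 cP4 = 16 ∧
    dL cO5 cP5 = 16 := by decide +kernel

theorem fun_ext_pt {f g : GolayPt → ℤ} (h : ∀ j < 24, f (pt j) = g (pt j)) : f = g := by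
  funext p
  have := h (idx p) (idx_lt p)
  rwa [pt_idx] at this

/-- `4 u₈ + v + 2 (p₁ + p₂ + p₃) + w + p₄ + p₅ = 0`. -/
theorem cL_rel8 : (4 : ℤ) • vecOf cL8 + vecOf uL + (2 : ℤ) • (vecOf cP1 + vecOf cP2 + vecOf cP3) +
    vecOf qL8 + vecOf cP4 + vecOf cP5 = 0 := by
  apply fun_ext_pt
  intro j hj
  simp only [Pi.add_apply, Pi.smul_apply, Pi.zero_apply, vecOf_pt _ hj, smul_eq_mul]
  revert j
  decide +kernel

/-- `2 u' + v + w = p₄ + p₅`. -/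
theorem cL_rel16 : (2 : ℤ) • vecOf cL16 + vecOf uL + vecOf qL8 = vecOf cP4 + vecOf cP5 := by
  apply fun_ext_pt
  intro j hj
  simp only [Pi.add_apply, Pi.smul_apply, vecOf_pt _ hj, smul_eq_mul]
  revert j
  decide +kernel


theorem vecU_minF : vecU ∈ minF := by
  rw [mem_minF]
  refine ⟨leechU.2, ?_⟩
  rw [vecU_eq, sqNorm_vecOf]
  exact cL_norm.1

/-! ### A 2-group of automorphisms fixing `leechU` stabilizes a pair `{w, -w}` orthogonal to it -/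

theorem exists_fixed_pair (N : Subgroup (Equiv.Perm leechLattice))
    (hN : ∀ n ∈ N, n ∈ Co0 ∧ n leechU = leechU)
    (h2 : ∀ n ∈ N, ∃ k : ℕ, n ^ 2 ^ k = 1) :
    ∃ w : leechLattice, sqNorm (w : GolayPt → ℤ) = 32 ∧ dotInt vecU (w : GolayPt → ℤ) = 0 ∧
      ∀ n ∈ N, n w = w ∨ n w = -w := by
  classical
  obtain ⟨X0, hX0⟩ : ∃ X0 : Finset leechLattice,
      X0 = (minF.filter (fun w => dotInt vecU w = 0)).subtype (· ∈ leechLattice) := ⟨_, rfl⟩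
  have memX0 : ∀ w : leechLattice, w ∈ X0 ↔
      sqNorm (w : GolayPt → ℤ) = 32 ∧ dotInt vecU (w : GolayPt → ℤ) = 0 := by
    intro w
    rw [hX0, Finset.mem_subtype, Finset.mem_filter, mem_minF]
    constructor
    · rintro ⟨⟨_, h1⟩, h2⟩; exact ⟨h1, h2⟩
    · rintro ⟨h1, h2⟩; exact ⟨⟨w.2, h1⟩, h2⟩
  have cardX0 : X0.card = 93150 := by
    rw [hX0, Finset.card_subtype]
    have : (minF.filter (fun w => dotInt vecU w = 0)).filter (· ∈ leechLattice) =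
        minF.filter (fun w => dotInt vecU w = 0) := by
      apply Finset.filter_true_of_mem
      intro w hw
      exact (mem_minF.1 (Finset.mem_filter.1 hw).1).1
    rw [this]
    exact nd_zero vecU_minF
  have negX0 : ∀ w ∈ X0, -w ∈ X0 := by
    intro w hw
    rw [memX0] at hw ⊢
    refine ⟨?_, ?_⟩
    · show sqNorm (-(w : GolayPt → ℤ)) = 32
      rw [sqNorm_neg']; exact hw.1
    · show dotInt vecU (-(w : GolayPt → ℤ)) = 0
      rw [dotInt_neg_right, hw.2, neg_zero]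
  have neX0 : ∀ w ∈ X0, w ≠ -w := by
    intro w hw h
    have h1 : (w : GolayPt → ℤ) = -(w : GolayPt → ℤ) := congrArg Subtype.val h
    have h0 : (w : GolayPt → ℤ) = 0 := by
      funext p
      have := congrFun h1 p
      simp only [Pi.neg_apply, Pi.zero_apply] at this ⊢
      omega
    have hn := ((memX0 w).1 hw).1
    rw [h0] at hn
    simp [sqNorm] at hn
  obtain ⟨pairF, hpairF⟩ : ∃ pairF : Finset (Sym2 leechLattice),
      pairF = X0.image (fun w => s(w, -w)) := ⟨_, rfl⟩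
  have cardP : pairF.card = 46575 := by
    have h := Finset.card_eq_sum_card_fiberwise (f := fun w : leechLattice => s(w, -w)) (s := X0)
      (t := pairF) (fun w hw => by rw [hpairF]; exact Finset.mem_image_of_mem _ hw)
    have h3 : ∀ b ∈ pairF, (X0.filter (fun w => s(w, -w) = b)).card = 2 := by
      intro b hb
      rw [hpairF] at hb
      obtain ⟨w, hw, rfl⟩ := Finset.mem_image.1 hb
      have : X0.filter (fun w' => s(w', -w') = s(w, -w)) = {w, -w} := by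
        ext w'
        simp only [Finset.mem_filter, Finset.mem_insert, Finset.mem_singleton, Sym2.eq_iff]
        constructor
        · rintro ⟨_, (⟨h1, _⟩ | ⟨h1, _⟩)⟩
          · exact Or.inl h1
          · exact Or.inr h1
        · rintro (rfl | rfl)
          · exact ⟨hw, Or.inl ⟨rfl, rfl⟩⟩
          · exact ⟨negX0 w hw, Or.inr ⟨rfl, neg_neg w⟩⟩
      rw [this, Finset.card_pair (neX0 w hw)]
    rw [Finset.sum_congr rfl h3, Finset.sum_const, smul_eq_mul, cardX0] at h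
    omega
  have hmap : ∀ n ∈ N, ∀ p ∈ pairF, Sym2.map (n : Equiv.Perm leechLattice) p ∈ pairF := by
    intro n hn p hp
    rw [hpairF] at hp ⊢
    obtain ⟨w, hw, rfl⟩ := Finset.mem_image.1 hp
    obtain ⟨hn0, hnu⟩ := hN n hn
    rw [Sym2.map_mk, co0_map_neg hn0]
    apply Finset.mem_image_of_mem (fun w => s(w, -w))
    rw [memX0] at hw ⊢
    refine ⟨(co0_sqNorm hn0 w).trans hw.1, ?_⟩
    have h := co0_dotInt hn0 leechU w
    rw [hnu] at h
    exact h.trans hw.2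
  let _ : MulAction ↥N {p : Sym2 leechLattice // p ∈ pairF} :=
    { smul := fun n p => ⟨Sym2.map ((n : Equiv.Perm leechLattice) : leechLattice → leechLattice) p.1,
        hmap n n.2 p.1 p.2⟩
      one_smul := fun p => by
        apply Subtype.ext
        show Sym2.map (((1 : ↥N) : Equiv.Perm leechLattice) : leechLattice → leechLattice) p.1 = p.1
        have : ((((1 : ↥N) : Equiv.Perm leechLattice)) : leechLattice → leechLattice) = id := rfl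
        rw [this, Sym2.map_id]; rfl
      mul_smul := fun a b p => by
        apply Subtype.ext
        show Sym2.map (((a * b : ↥N) : Equiv.Perm leechLattice) : leechLattice → leechLattice) p.1 =
          Sym2.map ((a : Equiv.Perm leechLattice) : leechLattice → leechLattice)
            (Sym2.map ((b : Equiv.Perm leechLattice) : leechLattice → leechLattice) p.1)
        rw [Sym2.map_map]; rfl }
  have hp : IsPGroup 2 ↥N := by
    intro n
    obtain ⟨k, hk⟩ := h2 n n.2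
    exact ⟨k, Subtype.ext hk⟩
  have hfix := hp.nonempty_fixed_point_of_prime_not_dvd_card {p : Sym2 leechLattice // p ∈ pairF}
    (by rw [Nat.card_eq_fintype_card, Fintype.card_coe, cardP]; norm_num)
  obtain ⟨⟨p, hp'⟩, hfixed⟩ := hfix
  rw [hpairF] at hp'
  obtain ⟨w, hw, rfl⟩ := Finset.mem_image.1 hp'
  refine ⟨w, ((memX0 w).1 hw).1, ((memX0 w).1 hw).2, fun n hn => ?_⟩
  have h := hfixed ⟨n, hn⟩
  have h' : Sym2.map (n : leechLattice → leechLattice) s(w, -w) = s(w, -w) := congrArg Subtype.val h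
  rw [Sym2.map_mk, Sym2.eq_iff] at h'
  rcases h' with ⟨h1, _⟩ | ⟨h1, _⟩
  · exact Or.inl h1
  · exact Or.inr h1


/-! ### Linking and spreading -/

theorem co0_link {n : Equiv.Perm leechLattice} (hn : n ∈ Co0) {w w' : leechLattice}
    (hd : dotInt (w : GolayPt → ℤ) (w' : GolayPt → ℤ) ≠ 0)
    (_hw : n w = w ∨ n w = -w) (hw' : n w' = w' ∨ n w' = -w') :
    (n w = w → n w' = w') ∧ (n w = -w → n w' = -w') := by
  have h := co0_dotInt hn w w'
  constructor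
  · intro h1
    rcases hw' with h2 | h2
    · exact h2
    · exfalso
      rw [h1, h2] at h
      have e : dotInt (w : GolayPt → ℤ) ((-w' : leechLattice) : GolayPt → ℤ) =
          -dotInt (w : GolayPt → ℤ) (w' : GolayPt → ℤ) := dotInt_neg_right _ _
      rw [e] at h
      apply hd
      omega
  · intro h1
    rcases hw' with h2 | h2
    · exfalso
      rw [h1, h2] at h
      have e : dotInt ((-w : leechLattice) : GolayPt → ℤ) (w' : GolayPt → ℤ) =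
          -dotInt (w : GolayPt → ℤ) (w' : GolayPt → ℤ) := dotInt_neg_left _ _
      rw [e] at h
      apply hd
      omega
    · exact h2

/-- An automorphism as an additive map. -/
def coAdd (n : Equiv.Perm leechLattice) (hn : n ∈ Co0) : leechLattice →+ leechLattice :=
  AddMonoidHom.mk' n (co0_map_add hn)

theorem coAdd_apply (n : Equiv.Perm leechLattice) (hn : n ∈ Co0) (x : leechLattice) :
    coAdd n hn x = n x := rfl

theorem leech_smul_cancel {k : ℤ} (hk : k ≠ 0) {a b : leechLattice} (h : k • a = k • b) : a = b := by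
  apply Subtype.ext
  funext p
  have h1 := congrFun (congrArg Subtype.val h) p
  simp only [AddSubgroup.coe_zsmul, Pi.smul_apply, smul_eq_mul] at h1
  exact mul_left_cancel₀ hk h1

section Spread

variable (N : Subgroup (Equiv.Perm leechLattice))
  (hnorm : ∀ s : Equiv.Perm leechLattice, s ∈ Co0 → s leechU = leechU → ∀ n ∈ N, s * n * s⁻¹ ∈ N)

include hnorm

theorem spread_fix {x₀ x : GolayPt → ℤ} (hr : SRel x₀ x)
    (h0 : ∀ n ∈ N, ∀ hx₀ : x₀ ∈ leechLattice, n ⟨x₀, hx₀⟩ = ⟨x₀, hx₀⟩) :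
    ∀ n ∈ N, ∀ hx : x ∈ leechLattice, n ⟨x, hx⟩ = ⟨x, hx⟩ := by
  obtain ⟨g, hg, hgu, hx₀, hgx⟩ := hr
  intro n hn hx
  have hgi : g⁻¹ leechU = leechU := by
    rw [Equiv.Perm.inv_eq_iff_eq]; exact hgu.symm
  have h1 := hnorm g⁻¹ (Co0.inv_mem hg) hgi n hn
  rw [inv_inv] at h1
  have h2 := h0 _ h1 hx₀
  have h3 : (⟨x, hx⟩ : leechLattice) = g ⟨x₀, hx₀⟩ := Subtype.ext hgx.symm
  rw [h3]
  have h4 : g ((g⁻¹ * n * g) ⟨x₀, hx₀⟩) = g ⟨x₀, hx₀⟩ := by rw [h2]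
  simpa [Equiv.Perm.mul_apply] using h4

theorem spread_pm {x₀ x : GolayPt → ℤ} (hr : SRel x₀ x)
    (h0 : ∀ n ∈ N, ∀ hx₀ : x₀ ∈ leechLattice, n ⟨x₀, hx₀⟩ = ⟨x₀, hx₀⟩ ∨ n ⟨x₀, hx₀⟩ = -⟨x₀, hx₀⟩) :
    ∀ n ∈ N, ∀ hx : x ∈ leechLattice, n ⟨x, hx⟩ = ⟨x, hx⟩ ∨ n ⟨x, hx⟩ = -⟨x, hx⟩ := by
  obtain ⟨g, hg, hgu, hx₀, hgx⟩ := hr
  intro n hn hx
  have hgi : g⁻¹ leechU = leechU := by
    rw [Equiv.Perm.inv_eq_iff_eq]; exact hgu.symm
  have h1 := hnorm g⁻¹ (Co0.inv_mem hg) hgi n hn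
  rw [inv_inv] at h1
  have h3 : (⟨x, hx⟩ : leechLattice) = g ⟨x₀, hx₀⟩ := Subtype.ext hgx.symm
  rw [h3]
  rcases h0 _ h1 hx₀ with h2 | h2
  · left
    have h4 : g ((g⁻¹ * n * g) ⟨x₀, hx₀⟩) = g ⟨x₀, hx₀⟩ := by rw [h2]
    simpa [Equiv.Perm.mul_apply] using h4
  · right
    have h4 : g ((g⁻¹ * n * g) ⟨x₀, hx₀⟩) = g (-⟨x₀, hx₀⟩) := by rw [h2]
    rw [co0_map_neg hg] at h4
    simpa [Equiv.Perm.mul_apply] using h4

end Spread


/-! ### The key computation for one automorphism -/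

theorem key_elt {n : Equiv.Perm leechLattice} (hn : n ∈ Co0) (hnu : n leechU = leechU)
    (hpm : ∀ w : leechLattice, sqNorm (w : GolayPt → ℤ) = 32 → dotInt vecU (w : GolayPt → ℤ) = 0 →
      n w = w ∨ n w = -w) :
    n (lv qL8 cL_ok.2.1) = lv qL8 cL_ok.2.1 ∧ n (lv cL8 cL_ok.2.2.1) = lv cL8 cL_ok.2.2.1 ∧
      n (lv cL16 cL_ok.2.2.2.1) = lv cL16 cL_ok.2.2.2.1 := by
  obtain ⟨oU, oW, o8, o16, oP1, oP2, oP3, oP4, oP5, oO1, oO2, oO3, oO4, oO5⟩ := cL_ok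
  obtain ⟨nU, nW, n8, n16, nP1, nP2, nP3, nP4, nP5, nO1, nO2, nO3, nO4, nO5⟩ := cL_norm
  obtain ⟨dW, d8, d16, dP1, dP2, dP3, dP4, dP5, dO1, dO2, dO3, dO4, dO5⟩ := cL_dotU
  obtain ⟨l1, l2, l3, l4, l5, m1, m2, m3, m4, m5⟩ := cL_link
  have hX : ∀ (l : List ℤ) (o : leechB l = true), nL l = 32 → dL uL l = 0 →
      n (lv l o) = lv l o ∨ n (lv l o) = -lv l o := by
    intro l o hnl hdl
    apply hpm
    · exact (sqNorm_vecOf l).trans hnl
    · show dotInt vecU (vecOf l) = 0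
      rw [vecU_eq]
      exact (dotInt_vecOf _ _).trans hdl
  have hL : ∀ (l l' : List ℤ) (o : leechB l = true) (o' : leechB l' = true), dL l l' = 16 →
      (n (lv l o) = lv l o ∨ n (lv l o) = -lv l o) →
      (n (lv l' o') = lv l' o' ∨ n (lv l' o') = -lv l' o') →
      (n (lv l o) = lv l o → n (lv l' o') = lv l' o') ∧
        (n (lv l o) = -lv l o → n (lv l' o') = -lv l' o') := by
    intro l l' o o' hd h h'
    apply co0_link hn _ h h'
    show dotInt (vecOf l) (vecOf l') ≠ 0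
    rw [(dotInt_vecOf l l').trans hd]
    norm_num
  have hW := hX qL8 oW nW dW
  have hO1 := hX cO1 oO1 nO1 dO1
  have hO2 := hX cO2 oO2 nO2 dO2
  have hO3 := hX cO3 oO3 nO3 dO3
  have hO4 := hX cO4 oO4 nO4 dO4
  have hO5 := hX cO5 oO5 nO5 dO5
  have hP1 := hX cP1 oP1 nP1 dP1
  have hP2 := hX cP2 oP2 nP2 dP2
  have hP3 := hX cP3 oP3 nP3 dP3
  have hP4 := hX cP4 oP4 nP4 dP4
  have hP5 := hX cP5 oP5 nP5 dP5
  have L1 := hL qL8 cO1 oW oO1 l1 hW hO1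
  have L2 := hL qL8 cO2 oW oO2 l2 hW hO2
  have L3 := hL qL8 cO3 oW oO3 l3 hW hO3
  have L4 := hL qL8 cO4 oW oO4 l4 hW hO4
  have L5 := hL qL8 cO5 oW oO5 l5 hW hO5
  have M1 := hL cO1 cP1 oO1 oP1 m1 hO1 hP1
  have M2 := hL cO2 cP2 oO2 oP2 m2 hO2 hP2
  have M3 := hL cO3 cP3 oO3 oP3 m3 hO3 hP3
  have M4 := hL cO4 cP4 oO4 oP4 m4 hO4 hP4
  have M5 := hL cO5 cP5 oO5 oP5 m5 hO5 hP5
  have R8 : (4 : ℤ) • lv cL8 o8 + leechU + (2 : ℤ) • (lv cP1 oP1 + lv cP2 oP2 + lv cP3 oP3) +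
      lv qL8 oW + lv cP4 oP4 + lv cP5 oP5 = 0 := by
    apply Subtype.ext
    show (4 : ℤ) • vecOf cL8 + vecU + (2 : ℤ) • (vecOf cP1 + vecOf cP2 + vecOf cP3) +
      vecOf qL8 + vecOf cP4 + vecOf cP5 = 0
    rw [vecU_eq]
    exact cL_rel8
  have R16 : (2 : ℤ) • lv cL16 o16 + leechU + lv qL8 oW = lv cP4 oP4 + lv cP5 oP5 := by
    apply Subtype.ext
    show (2 : ℤ) • vecOf cL16 + vecU + vecOf qL8 = vecOf cP4 + vecOf cP5
    rw [vecU_eq]
    exact cL_rel16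
  have A8 := congrArg (coAdd n hn) R8
  have A16 := congrArg (coAdd n hn) R16
  simp only [map_add, map_zsmul, map_zero, coAdd_apply] at A8 A16
  rw [hnu] at A8 A16
  rcases hW with hW | hW
  · have e1 := M1.1 (L1.1 hW)
    have e2 := M2.1 (L2.1 hW)
    have e3 := M3.1 (L3.1 hW)
    have e4 := M4.1 (L4.1 hW)
    have e5 := M5.1 (L5.1 hW)
    rw [e1, e2, e3, hW, e4, e5] at A8
    rw [hW, e4, e5] at A16
    refine ⟨hW, ?_, ?_⟩
    · have h := add_right_cancel (add_right_cancel (add_right_cancel (add_right_cancel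
        (add_right_cancel (A8.trans R8.symm)))))
      exact leech_smul_cancel (by norm_num) h
    · have h := add_right_cancel (add_right_cancel (A16.trans R16.symm))
      exact leech_smul_cancel (by norm_num) h
  · exfalso
    have e1 := M1.2 (L1.2 hW)
    have e2 := M2.2 (L2.2 hW)
    have e3 := M3.2 (L3.2 hW)
    have e4 := M4.2 (L4.2 hW)
    have e5 := M5.2 (L5.2 hW)
    rw [e1, e2, e3, hW, e4, e5] at A8
    obtain ⟨Y, hY⟩ : ∃ Y : leechLattice, Y = -(n (lv cL8 o8) + lv cL8 o8) := ⟨_, rfl⟩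
    have h3 : (2 : ℤ) • leechU = (2 : ℤ) • (Y + Y) := by
      rw [hY]
      calc (2 : ℤ) • leechU = ((4 : ℤ) • lv cL8 o8 + leechU +
            (2 : ℤ) • (lv cP1 oP1 + lv cP2 oP2 + lv cP3 oP3) +
            lv qL8 oW + lv cP4 oP4 + lv cP5 oP5) +
          ((4 : ℤ) • n (lv cL8 o8) + leechU +
            (2 : ℤ) • (-lv cP1 oP1 + -lv cP2 oP2 + -lv cP3 oP3) +
            -lv qL8 oW + -lv cP4 oP4 + -lv cP5 oP5) +
          (2 : ℤ) • (-(n (lv cL8 o8) + lv cL8 o8) + -(n (lv cL8 o8) + lv cL8 o8)) := by abel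
        _ = (2 : ℤ) • (-(n (lv cL8 o8) + lv cL8 o8) + -(n (lv cL8 o8) + lv cL8 o8)) := by
          rw [R8, A8, add_zero, zero_add]
    have h4 : leechU = Y + Y := leech_smul_cancel (by norm_num) h3
    have h5 : vecU = (Y : GolayPt → ℤ) + (Y : GolayPt → ℤ) := congrArg Subtype.val h4
    have h6 : sqNorm vecU = 32 := (mem_minF.1 vecU_minF).2
    rw [h5, sqNorm_add, dotInt_self] at h6
    by_cases hY0 : (Y : GolayPt → ℤ) = 0
    · rw [hY0] at h6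
      simp [sqNorm] at h6
    · have := sqNorm_ge Y.2 hY0
      omega

/-! ### The theorem -/

theorem co2_normal_two_trivial (N : Subgroup (Equiv.Perm leechLattice))
    (hN : ∀ n ∈ N, n ∈ Co0 ∧ n leechU = leechU)
    (hnorm : ∀ s : Equiv.Perm leechLattice, s ∈ Co0 → s leechU = leechU → ∀ n ∈ N, s * n * s⁻¹ ∈ N)
    (h2 : ∀ n ∈ N, ∃ k : ℕ, n ^ 2 ^ k = 1) : ∀ n ∈ N, n = 1 := by
  obtain ⟨oU, oW, o8, o16, -⟩ := cL_ok
  obtain ⟨nU, nW, n8, n16, -⟩ := cL_norm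
  obtain ⟨dW, d8, d16, -⟩ := cL_dotU
  have NW : sqNorm ((lv qL8 oW : leechLattice) : GolayPt → ℤ) = 32 := (sqNorm_vecOf _).trans nW
  have N8 : sqNorm ((lv cL8 o8 : leechLattice) : GolayPt → ℤ) = 32 := (sqNorm_vecOf _).trans n8
  have N16 : sqNorm ((lv cL16 o16 : leechLattice) : GolayPt → ℤ) = 32 := (sqNorm_vecOf _).trans n16
  have DW : dotInt vecU ((lv qL8 oW : leechLattice) : GolayPt → ℤ) = 0 := by
    show dotInt vecU (vecOf qL8) = 0
    rw [vecU_eq]; exact (dotInt_vecOf _ _).trans dW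
  have D8 : dotInt vecU ((lv cL8 o8 : leechLattice) : GolayPt → ℤ) = -8 := by
    show dotInt vecU (vecOf cL8) = -8
    rw [vecU_eq]; exact (dotInt_vecOf _ _).trans d8
  have D16 : dotInt vecU ((lv cL16 o16 : leechLattice) : GolayPt → ℤ) = -16 := by
    show dotInt vecU (vecOf cL16) = -16
    rw [vecU_eq]; exact (dotInt_vecOf _ _).trans d16
  obtain ⟨w₀, hw₀n, hw₀d, hw₀⟩ := exists_fixed_pair N hN h2
  have hpm : ∀ n ∈ N, ∀ w : leechLattice, sqNorm (w : GolayPt → ℤ) = 32 →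
      dotInt vecU (w : GolayPt → ℤ) = 0 → n w = w ∨ n w = -w := by
    intro n hn w hwn hwd
    have hr : SRel (w₀ : GolayPt → ℤ) (w : GolayPt → ℤ) := trans0 w₀.2 hw₀n hw₀d w.2 hwn hwd
    exact spread_pm N hnorm hr (fun n hn _ => hw₀ n hn) n hn w.2
  have hkey : ∀ n ∈ N, n (lv qL8 oW) = lv qL8 oW ∧ n (lv cL8 o8) = lv cL8 o8 ∧
      n (lv cL16 o16) = lv cL16 o16 :=
    fun n hn => key_elt (hN n hn).1 (hN n hn).2 (hpm n hn)
  have f0 : ∀ n ∈ N, ∀ x : leechLattice, sqNorm (x : GolayPt → ℤ) = 32 →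
      dotInt vecU (x : GolayPt → ℤ) = 0 → n x = x := by
    intro n hn x hxn hxd
    exact spread_fix N hnorm (trans0 (lv qL8 oW).2 NW DW x.2 hxn hxd)
      (fun n hn _ => (hkey n hn).1) n hn x.2
  have f8 : ∀ n ∈ N, ∀ x : leechLattice, sqNorm (x : GolayPt → ℤ) = 32 →
      dotInt vecU (x : GolayPt → ℤ) = -8 → n x = x := by
    intro n hn x hxn hxd
    exact spread_fix N hnorm (trans8 (lv cL8 o8).2 N8 D8 x.2 hxn hxd)
      (fun n hn _ => (hkey n hn).2.1) n hn x.2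
  have f16 : ∀ n ∈ N, ∀ x : leechLattice, sqNorm (x : GolayPt → ℤ) = 32 →
      dotInt vecU (x : GolayPt → ℤ) = -16 → n x = x := by
    intro n hn x hxn hxd
    exact spread_fix N hnorm (trans16 (lv cL16 o16).2 N16 D16 x.2 hxn hxd)
      (fun n hn _ => (hkey n hn).2.2) n hn x.2
  have hneg : ∀ x : leechLattice, sqNorm (x : GolayPt → ℤ) = 32 →
      sqNorm ((-x : leechLattice) : GolayPt → ℤ) = 32 := by
    intro x hx
    show sqNorm (-(x : GolayPt → ℤ)) = 32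
    rw [sqNorm_neg']; exact hx
  have hnegd : ∀ x : leechLattice, dotInt vecU ((-x : leechLattice) : GolayPt → ℤ) =
      -dotInt vecU (x : GolayPt → ℤ) := fun x => dotInt_neg_right _ _
  intro n hn
  obtain ⟨hn0, hnu⟩ := hN n hn
  apply co0_ext_min hn0 Co0.one_mem
  intro x hxn
  show n x = x
  rcases dot_cases vecU_minF (mem_minF.2 ⟨x.2, hxn⟩) with ⟨_, h⟩ | ⟨_, h⟩ | h | h | h | h | h
  · have : x = leechU := Subtype.ext h
    rw [this]; exact hnu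
  · have : x = -leechU := Subtype.ext h
    rw [this, co0_map_neg hn0, hnu]
  · have h1 := f16 n hn (-x) (hneg x hxn) (by rw [hnegd, h])
    rw [co0_map_neg hn0] at h1
    exact neg_injective h1
  · exact f16 n hn x hxn h
  · have h1 := f8 n hn (-x) (hneg x hxn) (by rw [hnegd, h])
    rw [co0_map_neg hn0] at h1
    exact neg_injective h1
  · exact f8 n hn x hxn h
  · exact f0 n hn x hxn h

/-- The stabilizer of a minimal vector has no nontrivial normal 2-subgroup. -/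
theorem stab_min_normal_two_trivial (v : leechLattice) (hv : sqNorm (v : GolayPt → ℤ) = 32)
    (N : Subgroup (Equiv.Perm leechLattice))
    (hN : ∀ n ∈ N, n ∈ Co0 ∧ n v = v)
    (hnorm : ∀ s : Equiv.Perm leechLattice, s ∈ Co0 → s v = v → ∀ n ∈ N, s * n * s⁻¹ ∈ N)
    (h2 : ∀ n ∈ N, ∃ k : ℕ, n ^ 2 ^ k = 1) : ∀ n ∈ N, n = 1 := by
  obtain ⟨τ, hτ, hτv⟩ := exists_to_U v hv
  have hτi : τ⁻¹ leechU = v := by
    rw [Equiv.Perm.inv_eq_iff_eq]; exact hτv.symm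
  obtain ⟨N', hN'⟩ : ∃ N' : Subgroup (Equiv.Perm leechLattice),
      N' = N.map (MulAut.conj τ).toMonoidHom := ⟨_, rfl⟩
  have hmem : ∀ m, m ∈ N' ↔ τ⁻¹ * m * τ ∈ N := by
    intro m; rw [hN', Subgroup.mem_map_equiv, MulAut.conj_symm_apply]
  have h := co2_normal_two_trivial N' ?_ ?_ ?_
  · intro n hn
    have h1 : τ * n * τ⁻¹ ∈ N' := by
      rw [hmem]
      have e : τ⁻¹ * (τ * n * τ⁻¹) * τ = n := by group
      rw [e]; exact hn
    have h3 := h _ h1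
    calc n = τ⁻¹ * (τ * n * τ⁻¹) * τ := by group
      _ = 1 := by rw [h3]; group
  · intro m hm
    rw [hmem] at hm
    obtain ⟨h1, h3⟩ := hN _ hm
    refine ⟨?_, ?_⟩
    · have e : m = τ * (τ⁻¹ * m * τ) * τ⁻¹ := by group
      rw [e]; exact Co0.mul_mem (Co0.mul_mem hτ h1) (Co0.inv_mem hτ)
    · have h4 : τ ((τ⁻¹ * m * τ) v) = τ v := by rw [h3]
      rw [Equiv.Perm.mul_apply, Equiv.Perm.mul_apply, hτv] at h4
      have h5 : τ (τ⁻¹ (m leechU)) = m leechU := Equiv.apply_symm_apply τ _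
      rw [h5] at h4
      exact h4
  · intro s hs hsu m hm
    rw [hmem] at hm ⊢
    have hs' : (τ⁻¹ * s * τ) v = v := by
      rw [Equiv.Perm.mul_apply, Equiv.Perm.mul_apply, hτv, hsu, hτi]
    have h1 := hnorm (τ⁻¹ * s * τ) (Co0.mul_mem (Co0.mul_mem (Co0.inv_mem hτ) hs) hτ) hs' _ hm
    have e : τ⁻¹ * (s * m * s⁻¹) * τ = τ⁻¹ * s * τ * (τ⁻¹ * m * τ) * (τ⁻¹ * s * τ)⁻¹ := by group
    rw [e]; exact h1
  · intro m hm
    rw [hmem] at hm
    obtain ⟨k, hk⟩ := h2 _ hm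
    refine ⟨k, ?_⟩
    have e : τ⁻¹ * m * τ = τ⁻¹ * m * τ⁻¹⁻¹ := by rw [inv_inv]
    rw [e, conj_pow] at hk
    calc m ^ 2 ^ k = τ * (τ⁻¹ * m ^ 2 ^ k * τ⁻¹⁻¹) * τ⁻¹ := by group
      _ = 1 := by rw [hk]; group

end Cfsg.Agent.Lib.Helper30
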